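import Cfsg.Agent.Lib.LangSteinberg.WeylF4.Leaves
import Cfsg.Agent.Lib.LangSteinberg.CommTorus

/-!
# Polynomials annihilating the elements of the Weyl group of type F4
-/

set_option autoImplicit false

namespace Cfsg.Agent.WeylF4

open Cfsg.Lie Cfsg.Agent.LangSteinberg Cfsg.Agent.Chev.BNSetup

variable {F : Type*} [Field F]

/-- The Weyl element of a word. -/
noncomputable def w (F : Type*) [Field F] (l : List (Fin chevF4.rank)) : Equiv.Perm (Fin chevF4.nroots) :=
  (data Cfsg.Agent.Chev.F4.good F).wl l

/-- The simple roots. -/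
def sr (i : Fin chevF4.rank) : Fin chevF4.nroots := ⟨chevF4.simple i, Cfsg.Agent.Chev.F4.good.simple_lt i.2⟩

/-- Additive functions on the roots. -/
def Add' {A : Type*} [AddCommGroup A] (a : Fin chevF4.nroots → A) : Prop :=
  ∀ s, a s = ∑ i : Fin chevF4.rank, cdF4 s.val i.val • a (sr i)

theorem exists_element (l : List (Fin chevF4.rank)) :
    ∃ e < 1152, ∀ j : Fin chevF4.rank, (w F l (sr j)).val = img e j.val := by
  induction l with
  | nil => exact ⟨0, by norm_num, fun j => by rw [start_ok j j.2]; simp [w, RootBN.Data.wl, sr]⟩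
  | cons i l ih =>
    obtain ⟨e, he, hj⟩ := ih
    have h := List.all_eq_true.1 closed_ok e (List.mem_range.2 he)
    have h1 := List.all_eq_true.1 h i.val (List.mem_range.2 i.2)
    rw [Bool.and_eq_true, decide_eq_true_eq, List.all_eq_true] at h1
    refine ⟨nx e i.val, h1.1, fun j => ?_⟩
    rw [beq_iff_eq.1 (h1.2 j.val (List.mem_range.2 j.2)), w, RootBN.Data.wl_cons, Equiv.Perm.mul_apply,
      data_refl, refl_ok i.val i.2 _ (hj j ▸ (w F l (sr j)).2), ← hj j]
    rfl

theorem add'_comp (l : List (Fin chevF4.rank)) {A : Type*} [AddCommGroup A] {a : Fin chevF4.nroots → A}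
    (ha : Add' a) : Add' fun s => a (w F l s) := by
  obtain ⟨M, hM⟩ := coordsF4.wl_linear Cfsg.Agent.Chev.F4.good (F := F) l
  have hrow : ∀ (i : Fin chevF4.rank) (k : ℕ), k < chevF4.rank → cdF4 (w F l (sr i)).val k = M i.val k := by
    intro i k hk
    rw [w, hM _ k hk, Finset.sum_eq_single i.val]
    · rw [show (sr i).val = chevF4.simple i from rfl, coordsF4.simple_eq i i.2 i i.2, if_pos rfl, one_mul]
    · intro j hj hne
      rw [show (sr i).val = chevF4.simple i from rfl, coordsF4.simple_eq i i.2 j (Finset.mem_range.1 hj),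
        if_neg (Ne.symm hne), zero_mul]
    · intro h; exact absurd (Finset.mem_range.2 i.2) h
  intro s
  show a _ = _
  rw [ha (w F l s)]
  dsimp only
  conv_rhs => enter [2, i]; rw [ha (w F l (sr i)), Finset.smul_sum]
  rw [Finset.sum_comm]
  refine Finset.sum_congr rfl fun k _ => ?_
  simp only [smul_smul, hrow _ k.val k.2]
  rw [← Finset.sum_smul]
  refine congrArg (· • a (sr k)) ?_
  rw [w, hM s k.val k.2, Fin.sum_univ_eq_sum_range (fun i => cdF4 s.val i * M i k.val)]

theorem add'_iterate (l : List (Fin chevF4.rank)) {A : Type*} [AddCommGroup A] {a : Fin chevF4.nroots → A}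
    (ha : Add' a) : ∀ t : ℕ, Add' fun s => a ((w F l ^ t) s) := by
  intro t
  induction t with
  | zero => simpa using ha
  | succ t ih => simpa [pow_succ, Equiv.Perm.mul_apply] using add'_comp (F := F) l ih

/-- The coordinate functions. -/
theorem add'_coord (k : ℕ) (hk : k < chevF4.rank) : Add' fun s => cdF4 s.val k := by
  intro s
  show cdF4 s.val k = _
  rw [Finset.sum_eq_single (⟨k, hk⟩ : Fin chevF4.rank)]
  · show _ = cdF4 s.val k • cdF4 (chevF4.simple k) k
    rw [coordsF4.simple_eq k hk k hk, if_pos rfl, smul_eq_mul, mul_one]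
  · intro j _ hne
    show cdF4 s.val j • cdF4 (chevF4.simple j) k = 0
    rw [coordsF4.simple_eq j j.2 k hk, if_neg (fun h => hne (Fin.ext h)), smul_zero]
  · simp

theorem cv_getD (s j : ℕ) (hj : j < 4) : (cv s).getD j 0 = cdF4 s j := by
  simp [cv, List.getD_eq_getElem?_getD, hj]

theorem step_cv {l : List (Fin chevF4.rank)} {e : ℕ}
    (he : ∀ j : Fin chevF4.rank, (w F l (sr j)).val = img e j.val) (s : Fin chevF4.nroots) :
    step (rows e) (cv s.val) = cv (w F l s).val := by
  refine List.map_congr_left fun j hj => ?_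
  have hj' : j < 4 := List.mem_range.1 hj
  have hr : ∀ i : Fin 4, ((rows e).getD i.val []).getD j 0 = cdF4 (w F l (sr i)).val j := fun i => by
    rw [he i, show (rows e).getD i.val [] = cv (img e i.val) by
      simp [rows, List.getD_eq_getElem?_getD, i.2], cv_getD _ _ hj']
  rw [show ((rows e).getD 0 []).getD j 0 = _ from hr 0, show ((rows e).getD 1 []).getD j 0 = _ from hr 1,
    show ((rows e).getD 2 []).getD j 0 = _ from hr 2, show ((rows e).getD 3 []).getD j 0 = _ from hr 3,
    cv_getD _ _ (by norm_num), cv_getD _ _ (by norm_num), cv_getD _ _ (by norm_num), cv_getD _ _ (by norm_num)]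
  have h := add'_comp (F := F) l (add'_coord j hj') s
  simp only [smul_eq_mul] at h
  rw [h]
  exact (Fin.sum_univ_four fun i : Fin 4 => cdF4 s.val i.val * cdF4 (w F l (sr i)).val j).symm

theorem orbit_cv {l : List (Fin chevF4.rank)} {e : ℕ}
    (he : ∀ j : Fin chevF4.rank, (w F l (sr j)).val = img e j.val) (s : Fin chevF4.nroots) :
    orbit (rows e) (cv s.val) = (List.range 5).map fun t => cv ((w F l ^ t) s).val := by
  have h : ∀ t : ℕ, step (rows e) (cv ((w F l ^ t) s).val) = cv ((w F l ^ (t + 1)) s).val := fun t => by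
    rw [pow_succ', Equiv.Perm.mul_apply, step_cv he]
  have h0 : cv s.val = cv ((w F l ^ 0) s).val := by simp
  simp only [orbit, forceV_eq]
  rw [h0, h 0, h 1, h 2, h 3]
  rfl

theorem basis_cv (i : ℕ) (hi : i < 4) :
    ((List.range 4).map fun j => if i = j then (1 : ℤ) else 0) = cv (chevF4.simple i) :=
  List.map_congr_left fun j hj => (coordsF4.simple_eq i hi j (List.mem_range.1 hj)).symm

/-- The combination of the translates under the powers of a word. -/
def comb {A : Type*} [AddCommGroup A] (c : List ℤ) (p : Equiv.Perm (Fin chevF4.nroots))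
    (a : Fin chevF4.nroots → A) (s : Fin chevF4.nroots) : A :=
  ∑ t : Fin 5, c.getD t.val 0 • a ((p ^ t.val) s)

theorem combZero_iff {l : List (Fin chevF4.rank)} {e : ℕ}
    (he : ∀ j : Fin chevF4.rank, (w F l (sr j)).val = img e j.val) {c : List ℤ} {s : Fin chevF4.nroots}
    (h : combZero c (orbit (rows e) (cv s.val)) = true) {j : ℕ} (hj : j < 4) :
    comb c (w F l) (fun s => cdF4 s.val j) s = 0 := by
  rw [combZero, List.all_eq_true] at h
  have h1 := beq_iff_eq.1 (h j (List.mem_range.2 hj))
  rw [orbit_cv he] at h1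
  simp only [List.range_succ, List.range_zero, List.nil_append, List.cons_append, List.map_cons, List.map_nil,
    List.getD_cons_zero, List.getD_cons_succ, cv_getD _ _ hj] at h1
  simpa [comb, Fin.sum_univ_five, smul_eq_mul] using h1

theorem comb_eq_zero {l : List (Fin chevF4.rank)} {A : Type*} [AddCommGroup A] {a : Fin chevF4.nroots → A}
    (ha : Add' a) {c : List ℤ} {s : Fin chevF4.nroots}
    (h : ∀ j < 4, comb c (w F l) (fun s => cdF4 s.val j) s = 0) : comb c (w F l) a s = 0 := by
  have e : comb c (w F l) a s =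
      ∑ j : Fin chevF4.rank, comb c (w F l) (fun s => cdF4 s.val j.val) s • a (sr j) := by
    simp only [comb, Finset.sum_smul, smul_assoc]
    rw [Finset.sum_comm]
    exact Finset.sum_congr rfl fun t _ => by rw [ha ((w F l ^ t.val) s), Finset.smul_sum]
  rw [e]
  exact Finset.sum_eq_zero fun j _ => by rw [h j.val j.2, zero_smul]

/-- `c` annihilates the element. -/
def Ann (F : Type*) [Field F] (l : List (Fin chevF4.rank)) (c : List ℤ) : Prop :=
  ∀ {A : Type} [AddCommGroup A] (a : Fin chevF4.nroots → A), Add' a → ∀ s, comb c (w F l) a s = 0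

theorem ann_of_check {l : List (Fin chevF4.rank)} {e : ℕ}
    (he : ∀ j : Fin chevF4.rank, (w F l (sr j)).val = img e j.val) {c : List ℤ} (h : annB (rows e) c = true) :
    Ann F l c := by
  intro A _ a ha s
  refine comb_eq_zero ha fun j hj => ?_
  -- reduce to the simple roots
  have hs : Add' fun r => comb c (w F l) (fun s => cdF4 s.val j) r := by
    intro r
    simp only [comb, Finset.smul_sum]
    rw [Finset.sum_comm]
    refine Finset.sum_congr rfl fun t _ => ?_
    rw [show cdF4 ((w F l ^ t.val) r).val j = _ from add'_iterate (F := F) l (add'_coord j hj) t.val r,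
      Finset.smul_sum]
    exact Finset.sum_congr rfl fun i _ => smul_comm _ _ _
  refine (hs s).trans (Finset.sum_eq_zero fun i _ => ?_)
  show _ • comb c (w F l) (fun s => cdF4 s.val j) (sr i) = 0
  rw [annB, List.all_eq_true] at h
  have h1 := h i.val (List.mem_range.2 i.2)
  rw [basis_cv i.val i.2] at h1
  rw [combZero_iff he (s := sr i) h1 hj, smul_zero]

/-- The regularity of the eigenvectors: the translates of each root span a lattice of two-power index. -/
def Spans (F : Type*) [Field F] (l : List (Fin chevF4.rank)) : Prop :=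
  ∀ {A : Type} [AddCommGroup A] (a : Fin chevF4.nroots → A), Add' a → ∀ s,
    (∀ t : ℕ, t < 4 → a ((w F l ^ t) s) = 0) → ∀ r, (8 : ℕ) • a r = 0

theorem spans_of_check {l : List (Fin chevF4.rank)} {e : ℕ}
    (he : ∀ j : Fin chevF4.rank, (w F l (sr j)).val = img e j.val)
    (h : ((List.range 48).all fun s => forceV (cv s) fun v => forceM (orbit (rows e) v) spanB) = true) :
    Spans F l := by
  intro A _ a ha s h0 r
  rw [List.all_eq_true] at h
  have h1 := h s.val (List.mem_range.2 s.2)
  rw [forceV_eq, forceM_eq, orbit_cv he] at h1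
  simp only [List.range_succ, List.range_zero, List.nil_append, List.cons_append, List.map_cons, List.map_nil,
    cv, spanB] at h1
  let N : Matrix (Fin 4) (Fin 4) ℤ := fun t j => cdF4 ((w F l ^ t.val) s).val j.val
  have hN : N.det = det4 (N 0 0) (N 0 1) (N 0 2) (N 0 3) (N 1 0) (N 1 1) (N 1 2) (N 1 3)
      (N 2 0) (N 2 1) (N 2 2) (N 2 3) (N 3 0) (N 3 1) (N 3 2) (N 3 3) := by
    simp [Matrix.det_succ_row_zero, Fin.sum_univ_succ, det4, Fin.succAbove]
    ring
  have hd8 : N.det ∣ (8 : ℤ) := by
    rw [← Int.natAbs_dvd, hN]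
    simp only [List.contains_eq_mem, List.mem_cons, List.not_mem_nil, or_false, decide_eq_true_eq] at h1
    rcases h1 with hd | hd | hd | hd <;> (simp only [N, Fin.val_zero, Fin.val_one, Fin.val_two, show ((3 : Fin 4) : ℕ) = 3 from rfl] at hd ⊢; rw [hd]; norm_num)
  have hdt : ∀ i : Fin 4, N.det • a (sr i) = 0 := by
    intro i
    have e : ∑ t : Fin 4, N.adjugate i t • ∑ j : Fin 4, N t j • a (sr j) =
        ∑ j : Fin 4, (N.adjugate * N) i j • a (sr j) := by
      simp only [Finset.smul_sum, smul_smul, Matrix.mul_apply, Finset.sum_smul]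
      exact Finset.sum_comm
    have e0 : ∀ t : Fin 4, ∑ j : Fin 4, N t j • a (sr j) = 0 := fun t =>
      ((ha ((w F l ^ t.val) s)).symm.trans (h0 t.val t.2) :)
    simp only [e0, smul_zero, Finset.sum_const_zero, Matrix.adjugate_mul, Matrix.smul_apply,
      Matrix.one_apply, smul_eq_mul, mul_ite, mul_one, mul_zero, ite_smul, zero_smul,
      Finset.sum_ite_eq, Finset.mem_univ, if_true] at e
    exact e.symm
  obtain ⟨k, hk⟩ := hd8
  rw [ha r, Finset.smul_sum]
  refine Finset.sum_eq_zero fun i _ => ?_
  rw [smul_comm, ← natCast_zsmul, show ((8 : ℕ) : ℤ) = k * N.det by rw [mul_comm]; exact_mod_cast hk,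
    ← smul_smul, show N.det • a (sr i) = 0 from hdt i, smul_zero, smul_zero]

/-- **The possibilities for an element of the Weyl group.** -/
theorem cases (l : List (Fin chevF4.rank)) :
    ((Ann F l pEight ∨ Ann F l pTwelve) ∧ Spans F l) ∨ Ann F l pFour ∨ Ann F l pThree ∨ Ann F l pSix := by
  obtain ⟨e, he, hj⟩ := exists_element (F := F) l
  have h := leaf_ok he
  simp only [leaf, forceM_eq (rows e), forceM_eq ((rows e).map (step (rows e))), Bool.and_eq_true] at h
  obtain ⟨⟨h, -⟩, -⟩ := h
  split_ifs at h with hb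
  · rw [Bool.or_eq_true] at hb
    exact Or.inl ⟨hb.imp (fun hb => ann_of_check hj hb) (fun hb => ann_of_check hj hb), spans_of_check hj h⟩
  · simp only [Bool.or_eq_true, or_assoc] at h
    exact Or.inr (h.imp (fun hb => ann_of_check hj hb) fun h =>
      h.imp (fun hb => ann_of_check hj hb) (fun hb => ann_of_check hj hb))

theorem cv_injective {s s' : Fin chevF4.nroots} (h : cv s.val = cv s'.val) : s = s' := by
  have hnd := cv_inj
  rw [List.nodup_map_iff_inj_on List.nodup_range] at hnd
  exact Fin.ext (hnd s.val (List.mem_range.2 s.2) s'.val (List.mem_range.2 s'.2) h)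

/-- An element of order two negates a root; one of order three has a root with zero orbit sum. -/
theorem exists_root (l : List (Fin chevF4.rank)) {k : ℕ} (hk : k = 2 ∨ k = 3) (hkl : w F l ^ k = 1)
    (hne : w F l ≠ 1) : ∃ s, ∀ {A : Type} [AddCommGroup A] (a : Fin chevF4.nroots → A), Add' a →
      ∑ t ∈ Finset.range k, a ((w F l ^ t) s) = 0 := by
  obtain ⟨e, he, hj⟩ := exists_element (F := F) l
  have h := leaf_ok he
  simp only [leaf, forceM_eq (rows e), forceM_eq ((rows e).map (step (rows e))), Bool.and_eq_true] at h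
  obtain ⟨⟨-, h2⟩, h3⟩ := h
  set E := (List.range 4).map fun i => (List.range 4).map fun j : ℕ => if i = j then (1 : ℤ) else 0 with hE
  have hEcv : E = (List.range 4).map fun i => cv (chevF4.simple i) :=
    List.map_congr_left fun i hi => basis_cv i (List.mem_range.1 hi)
  have hR : rows e = (List.range 4).map fun i : ℕ =>
      if hi : i < chevF4.rank then cv (w F l (sr ⟨i, hi⟩)).val else [] :=
    List.map_congr_left fun i hi => by
      rw [dif_pos (show i < chevF4.rank from List.mem_range.1 hi), hj]
  have hRne : rows e ≠ E := by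
    intro hRE
    refine hne (Equiv.ext fun s => cv_injective ?_)
    rw [← step_cv hj s, hRE]
    refine List.map_congr_left fun j hj' => ?_
    have hj'' := List.mem_range.1 hj'
    interval_cases j <;> simp [hE, List.range_succ, cv]
  have hM2 : (rows e).map (step (rows e)) = (List.range 4).map fun i : ℕ =>
      if hi : i < chevF4.rank then cv ((w F l ^ 2) (sr ⟨i, hi⟩)).val else [] := by
    rw [hR, List.map_map, ← hR]
    refine List.map_congr_left fun i hi => ?_
    simp only [Function.comp_apply, dif_pos (show i < chevF4.rank from List.mem_range.1 hi)]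
    rw [step_cv hj, pow_two, Equiv.Perm.mul_apply]
  have key : ∀ (s : Fin chevF4.nroots) (c : List ℤ), (∀ j < 4, comb c (w F l) (fun s => cdF4 s.val j) s = 0) →
      (∀ {A : Type} [AddCommGroup A] (a : Fin chevF4.nroots → A), Add' a → comb c (w F l) a s = 0) :=
    fun s c h {A} _ a ha => comb_eq_zero ha h
  rcases hk with rfl | rfl
  · have hsq : (rows e).map (step (rows e)) = E := by
      rw [hM2, hEcv]
      refine List.map_congr_left fun i hi => ?_
      rw [dif_pos (show i < chevF4.rank from List.mem_range.1 hi), hkl]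
      rfl
    simp only [hsq, bne_self_eq_false, Bool.false_or, Bool.or_eq_true, beq_iff_eq, hRne, false_or,
      List.any_eq_true, List.mem_range] at h2
    obtain ⟨s, hs, hs'⟩ := h2
    refine ⟨⟨s, hs⟩, fun {A} _ a ha => ?_⟩
    have h4 : ∀ j < 4, comb [1, 1] (w F l) (fun s => cdF4 s.val j) ⟨s, hs⟩ = 0 := by
      intro j hj'
      have h5 := congrArg (fun v : List ℤ => v.getD j 0) ((step_cv hj ⟨s, hs⟩).symm.trans hs')
      simp only [cv_getD _ _ hj'] at h5
      rw [show ((cv s).map fun z => -z).getD j 0 = -cdF4 s j by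
        simp [cv, List.getD_eq_getElem?_getD, hj']] at h5
      simp [comb, Fin.sum_univ_five, smul_eq_mul, h5]
    simpa [comb, Fin.sum_univ_five, Finset.sum_range_succ] using key _ _ h4 a ha
  · have hcube : ((rows e).map (step (rows e))).map (step (rows e)) = E := by
      rw [hM2, List.map_map, hEcv]
      refine List.map_congr_left fun i hi => ?_
      simp only [Function.comp_apply, dif_pos (show i < chevF4.rank from List.mem_range.1 hi)]
      rw [step_cv hj, ← Equiv.Perm.mul_apply, ← pow_succ', hkl]
      rfl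
    simp only [hcube, bne_self_eq_false, Bool.false_or, Bool.or_eq_true, beq_iff_eq, hRne, false_or,
      List.any_eq_true, List.mem_range] at h3
    obtain ⟨s, hs, hs'⟩ := h3
    refine ⟨⟨s, hs⟩, fun {A} _ a ha => ?_⟩
    simpa [comb, Fin.sum_univ_five, Finset.sum_range_succ] using
      key _ _ (fun j hj' => combZero_iff hj (s := ⟨s, hs⟩) hs' hj') a ha

/-- The twenty-fourth power of every element is trivial. -/
theorem pow_twentyFour (l : List (Fin chevF4.rank)) : w F l ^ 24 = 1 := by
  refine Equiv.ext fun s => cv_injective (List.map_congr_left fun j hj => ?_)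
  have hj' : j < chevF4.rank := List.mem_range.1 hj
  have hz : ∀ {c : List ℤ}, Ann F l c → ∀ n,
      c.getD 0 0 * cdF4 ((w F l ^ n) s).val j + c.getD 1 0 * cdF4 ((w F l ^ (n + 1)) s).val j +
      c.getD 2 0 * cdF4 ((w F l ^ (n + 2)) s).val j + c.getD 3 0 * cdF4 ((w F l ^ (n + 3)) s).val j +
      c.getD 4 0 * cdF4 ((w F l ^ (n + 4)) s).val j = 0 := by
    intro c hc n
    have h := hc _ (add'_coord j hj') ((w F l ^ n) s)
    simp only [comb, Fin.sum_univ_five, smul_eq_mul] at h
    have hp : ∀ t : ℕ, (w F l ^ t) ((w F l ^ n) s) = (w F l ^ (n + t)) s := fun t => by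
      rw [← Equiv.Perm.mul_apply, ← pow_add, add_comm]
    simp only [hp] at h
    simpa using h
  suffices h : ∀ n, cdF4 ((w F l ^ (n + 24)) s).val j = cdF4 ((w F l ^ n) s).val j by simpa using h 0
  intro n
  generalize hv : (fun n => cdF4 ((w F l ^ n) s).val j) = v
  have hz' : ∀ {c : List ℤ}, Ann F l c → ∀ n,
      c.getD 0 0 * v n + c.getD 1 0 * v (n + 1) + c.getD 2 0 * v (n + 2) + c.getD 3 0 * v (n + 3) +
        c.getD 4 0 * v (n + 4) = 0 := fun {c} hc n => by subst hv; exact hz hc n
  suffices v (n + 24) = v n by subst hv; exact this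
  rcases cases (F := F) l with ⟨h | h, -⟩ | h | h | h
  all_goals
    have r := fun n => hz' h n
    simp [pFour, pEight, pTwelve, pThree, pSix] at r
  · linarith [r n, r (n + 4), r (n + 8), r (n + 12), r (n + 16), r (n + 20)]
  · linarith [r n, r (n + 2), r (n + 6), r (n + 8), r (n + 12), r (n + 14), r (n + 18), r (n + 20)]
  · linarith [r n, r (n + 4), r (n + 8), r (n + 12), r (n + 16), r (n + 20)]
  · linarith [r n, r (n + 1), r (n + 2), r (n + 6), r (n + 7), r (n + 8), r (n + 12), r (n + 13), r (n + 14),
      r (n + 18), r (n + 19), r (n + 20)]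
  · linarith [r n, r (n + 1), r (n + 2), r (n + 6), r (n + 7), r (n + 8), r (n + 12), r (n + 13), r (n + 14),
      r (n + 18), r (n + 19), r (n + 20)]

end Cfsg.Agent.WeylF4
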