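import Cfsg.Agent.Lib.LangSteinberg.WeylF4.Basic

/-! # Checked elements 144 to 287 -/

set_option autoImplicit false
set_option maxRecDepth 100000

namespace Cfsg.Agent.WeylF4

theorem leaves_ok1 : leaves 144 144 = true := by decide +kernel

end Cfsg.Agent.WeylF4
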