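import Cfsg.Agent.Lib.LangSteinberg.WeylF4.Leaves0
import Cfsg.Agent.Lib.LangSteinberg.WeylF4.Leaves1
import Cfsg.Agent.Lib.LangSteinberg.WeylF4.Leaves2
import Cfsg.Agent.Lib.LangSteinberg.WeylF4.Leaves3
import Cfsg.Agent.Lib.LangSteinberg.WeylF4.Leaves4
import Cfsg.Agent.Lib.LangSteinberg.WeylF4.Leaves5
import Cfsg.Agent.Lib.LangSteinberg.WeylF4.Leaves6
import Cfsg.Agent.Lib.LangSteinberg.WeylF4.Leaves7

/-! # All elements are checked -/

set_option autoImplicit false

namespace Cfsg.Agent.WeylF4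

theorem leaf_ok {e : Nat} (he : e < 1152) : leaf e = true := by
  have h : ∀ {a : Nat}, leaves a 144 = true → a ≤ e → e < a + 144 → leaf e = true := fun {a} h h1 h2 =>
    List.all_eq_true.1 h e (List.mem_range'_1.2 ⟨h1, h2⟩)
  rcases Nat.lt_or_ge e 144 with h0 | h0
  · exact h leaves_ok0 (Nat.zero_le _) (by omega)
  rcases Nat.lt_or_ge e 288 with h1 | h1
  · exact h leaves_ok1 h0 (by omega)
  rcases Nat.lt_or_ge e 432 with h2 | h2
  · exact h leaves_ok2 h1 (by omega)
  rcases Nat.lt_or_ge e 576 with h3 | h3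
  · exact h leaves_ok3 h2 (by omega)
  rcases Nat.lt_or_ge e 720 with h4 | h4
  · exact h leaves_ok4 h3 (by omega)
  rcases Nat.lt_or_ge e 864 with h5 | h5
  · exact h leaves_ok5 h4 (by omega)
  rcases Nat.lt_or_ge e 1008 with h6 | h6
  · exact h leaves_ok6 h5 (by omega)
  exact h leaves_ok7 (by omega) (by omega)

end Cfsg.Agent.WeylF4
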